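import Cfsg.Agent.Known.SU3Model
import Cfsg.Agent.SL2Pres.Core

/-!
Field facts for the presentation of `SU₃`.
-/

set_option autoImplicit false
set_option maxHeartbeats 600000

namespace Cfsg.Agent.SU3Pres

open Cfsg.Agent.Known

variable {F : Type*} [Field F] [Fintype F]

/-- The standing data. -/
structure Setup (φ : F →+* F) (q p : ℕ) (ζ : Fˣ) : Prop where
  frob : SU3.Frob φ q
  hp : p.Prime
  char : CharP F p
  q2 : q ≠ 2
  q5 : q ≠ 5
  gen : ∀ z : Fˣ, ∃ m : ℕ, z = ζ ^ m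
  ord : orderOf ζ = q ^ 2 - 1

variable {φ : F →+* F} {q p : ℕ} {ζ : Fˣ}

/-- The weight of the torus on the top of the root group. -/
def wt (φ : F →+* F) (t : Fˣ) : F := (t : F) ^ 2 / φ t

/-- The norm. -/
def nm (φ : F →+* F) (t : F) : F := t * φ t

theorem wt_mul (s t : Fˣ) : wt φ (s * t) = wt φ s * wt φ t := by
  simp only [wt, Units.val_mul, map_mul]
  ring

theorem wt_one : wt φ 1 = 1 := by simp [wt]

theorem wt_pow (t : Fˣ) (n : ℕ) : wt φ (t ^ n) = wt φ t ^ n := by
  induction n with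
  | zero => simp [wt_one]
  | succ n ih => rw [pow_succ, wt_mul, ih, pow_succ]

theorem nm_pow (t : F) (n : ℕ) : nm φ (t ^ n) = nm φ t ^ n := by
  simp [nm, mul_pow, map_pow]

theorem nm_mul (s t : F) : nm φ (s * t) = nm φ s * nm φ t := by
  simp only [nm, map_mul]; ring

omit [Fintype F] in
theorem map_nm (h : ∀ x, φ (φ x) = x) (t : F) : φ (nm φ t) = nm φ t := by
  rw [nm, map_mul, h, mul_comm]

theorem wt_ne_zero (t : Fˣ) : wt φ t ≠ 0 :=
  div_ne_zero (pow_ne_zero 2 t.ne_zero) (by simp [t.ne_zero])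

variable (S : Setup φ q p ζ)
include S

theorem three_le_q : 3 ≤ q := by
  have := S.frob.hq
  have := S.q2
  omega

theorem card_F : Fintype.card F = q ^ 2 := by rw [← Nat.card_eq_fintype_card]; exact S.frob.hF.2

theorem N_pos : 0 < q ^ 2 - 1 := by
  have := three_le_q S
  have : 3 * 3 ≤ q ^ 2 := by rw [sq]; exact Nat.mul_le_mul this this
  omega

theorem N_eq : q ^ 2 - 1 = (q - 1) * (q + 1) := by
  have := three_le_q S
  rw [mul_comm, ← Nat.sq_sub_sq, one_pow]

theorem pow_eq_one_iff (n : ℕ) : (ζ : F) ^ n = 1 ↔ q ^ 2 - 1 ∣ n := by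
  rw [← S.ord, orderOf_dvd_iff_pow_eq_one, Units.ext_iff, Units.val_pow_eq_pow_val, Units.val_one]

theorem phi_pow (n : ℕ) : φ ((ζ : F) ^ n) = (ζ : F) ^ (q * n) := by
  rw [S.frob.hφ, ← pow_mul, mul_comm]

theorem wt_pow_dvd {n : ℕ} (hn : wt φ ζ ^ n = 1) : q ^ 2 - 1 ∣ 3 * n := by
  rw [← wt_pow, wt, Units.val_pow_eq_pow_val, div_eq_one_iff_eq (by simp)] at hn
  have h1 := congrArg φ hn
  rw [map_pow φ ((ζ : F) ^ n), S.frob.invol] at h1
  rw [← pow_eq_one_iff S]
  refine mul_right_cancel₀ (pow_ne_zero n ζ.ne_zero) ?_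
  rw [one_mul, ← pow_add]
  calc (ζ : F) ^ (3 * n + n) = (((ζ : F) ^ n) ^ 2) ^ 2 := by ring
    _ = (φ ((ζ : F) ^ n)) ^ 2 := by rw [hn]
    _ = _ := h1

theorem not_dvd {k : ℕ} (hk : k = 3 ∨ k = 6) : ¬ (q + 1 ∣ k) := by
  intro h
  have hq := three_le_q S
  have hq5 := S.q5
  have h6 : q + 1 ∣ 6 := h.trans (by rcases hk with rfl | rfl <;> decide)
  have h7 : q ≤ 5 := by
    have := Nat.le_of_dvd (by norm_num) h6
    omega
  interval_cases q <;> omega

theorem fixed_pow_iff (n : ℕ) : φ ((ζ : F) ^ n) = (ζ : F) ^ n ↔ q + 1 ∣ n := by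
  have hq := three_le_q S
  rw [phi_pow S, show q * n = (q - 1) * n + n by rw [← Nat.succ_mul]; congr 1; omega, pow_add,
    mul_eq_right₀ (pow_ne_zero _ ζ.ne_zero), pow_eq_one_iff S, N_eq S,
    Nat.mul_dvd_mul_iff_left (by omega)]

theorem wt_fixed : φ (wt φ ζ) ≠ wt φ ζ := by
  intro h
  have h1 : wt φ ζ ^ (q - 1) = 1 := (S.frob.hF.fixed_iff (wt_ne_zero ζ)).1 (by rw [← S.frob.hφ]; exact h)
  have h2 := wt_pow_dvd S h1
  rw [N_eq S, mul_comm 3, Nat.mul_dvd_mul_iff_left (by have := three_le_q S; omega)] at h2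
  exact not_dvd S (Or.inl rfl) h2

theorem exists_power (z : F) (hz : z ≠ 0) : ∃ m : ℕ, z = (ζ : F) ^ m := by
  obtain ⟨m, hm⟩ := S.gen (Units.mk0 z hz)
  exact ⟨m, by simpa using congrArg Units.val hm⟩

/-- Every element is one of three times a weight. -/
theorem exists_class (a : F) (ha : a ≠ 0) : ∃ i, i < 3 ∧ ∃ n : ℕ, a = wt φ ζ ^ n * (ζ : F) ^ i := by
  obtain ⟨k, rfl⟩ := exists_power S a ha
  refine ⟨k % 3, Nat.mod_lt _ (by norm_num), (q + 2) * (k / 3), ?_⟩
  have h3 : wt φ ζ ^ (q + 2) = (ζ : F) ^ 3 := by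
    rw [← wt_pow, wt, Units.val_pow_eq_pow_val, div_eq_iff (by simp), phi_pow S, ← pow_mul, ← pow_add]
    have e : 3 + q * (q + 2) = (q + 2) * 2 + (q ^ 2 - 1) := by
      have := N_pos S
      have h2 : q * (q + 2) = q ^ 2 + 2 * q := by ring
      omega
    rw [e, pow_add _ _ (q ^ 2 - 1), (pow_eq_one_iff S _).2 dvd_rfl, mul_one]
  rw [pow_mul, h3, ← pow_mul, ← pow_add, Nat.div_add_mod]

/-- The weights containing a consecutive pair. -/
theorem exists_pair : ∃ i k : ℕ, wt φ ζ ^ k = 1 + wt φ ζ ^ i ∧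
    ∀ n, (wt φ ζ ^ i) ^ n = 1 → q + 1 ∣ 3 * n := by
  have hφ2 := S.frob.invol
  have h3 : ∀ k : ℕ, ∃ n, wt φ ζ ^ n = (ζ : F) ^ (3 * k) := fun k => by
    obtain ⟨i, hi, n, hn⟩ := exists_class S ((ζ : F) ^ 3) (pow_ne_zero _ ζ.ne_zero)
    refine ⟨(q + 2) * k, ?_⟩
    rw [← wt_pow, wt, Units.val_pow_eq_pow_val, div_eq_iff (by simp), phi_pow S, ← pow_mul, ← pow_add]
    have e : 3 * k + q * ((q + 2) * k) = (q + 2) * k * 2 + (q ^ 2 - 1) * k := by
      have := three_le_q S
      obtain ⟨m, hm⟩ : ∃ m, q ^ 2 = m + 1 := ⟨q ^ 2 - 1, by have := N_pos S; omega⟩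
      rw [hm, Nat.add_sub_cancel]
      have : q * ((q + 2) * k) = q ^ 2 * k + 2 * q * k := by ring
      rw [this, hm]
      ring
    rw [e, pow_add _ _ ((q ^ 2 - 1) * k), (pow_eq_one_iff S _).2 (Dvd.intro k rfl), mul_one]
  have hF0 : ∀ s : F, s ≠ 0 → φ s = s → ∃ n, wt φ ζ ^ n = s := fun s hs hfix => by
    obtain ⟨m, hm⟩ := S.gen (Units.mk0 s hs)
    refine ⟨m, ?_⟩
    rw [← wt_pow, ← hm, wt, Units.val_mk0, hfix, sq, mul_div_assoc, div_self hs, mul_one]
  set y := (ζ : F) ^ 3 with hy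
  have hy0 : y ≠ 0 := pow_ne_zero _ ζ.ne_zero
  have hy2 : φ (y ^ 2) ≠ y ^ 2 := fun e => by
    rw [hy, ← pow_mul] at e
    exact not_dvd S (Or.inr rfl) ((fixed_pow_iff S 6).1 e)
  set T := y + φ y with hT
  set M := nm φ y with hM
  have hM0 : M ≠ 0 := mul_ne_zero hy0 (by simpa using hy0)
  have hMf : φ M = M := map_nm hφ2 y
  have hTf : φ T = T := by rw [hT, map_add, hφ2, add_comm]
  have hT0 : T ≠ 0 := fun e => hy2 (by
    have h : φ y = -y := eq_neg_of_add_eq_zero_right e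
    rw [map_pow, h, neg_sq])
  obtain ⟨e1, he1⟩ := h3 1
  obtain ⟨e2, he2⟩ := h3 2
  obtain ⟨s1, hs1⟩ := hF0 (-(T / M)) (neg_ne_zero.2 (div_ne_zero hT0 hM0))
    (by rw [map_neg, map_div₀, hTf, hMf])
  obtain ⟨s2, hs2⟩ := hF0 (-M⁻¹) (neg_ne_zero.2 (inv_ne_zero hM0)) (by rw [map_neg, map_inv₀, hMf])
  have hx : wt φ ζ ^ (s1 + e1) = -(T / M) * y := by rw [pow_add, hs1, he1, hy]
  refine ⟨s1 + e1, s2 + e2, ?_, fun n hn => ?_⟩
  · rw [hx, pow_add, hs2, he2, show (ζ : F) ^ (3 * 2) = y ^ 2 by rw [hy, ← pow_mul]]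
    field_simp
    rw [hM, hT, nm]
    ring
  · rw [hx] at hn
    have h1 := congrArg φ hn
    rw [map_one, ← hn, map_pow, map_mul, map_neg, map_div₀, hTf, hMf, mul_pow, mul_pow] at h1
    have h2 := mul_left_cancel₀ (pow_ne_zero n (neg_ne_zero.2 (div_ne_zero hT0 hM0))) h1
    rw [← map_pow, hy, ← pow_mul] at h2
    exact (fixed_pow_iff S _).1 h2

/-- A basis of the field over the subfield generated by `x`, in powers of the basic weight. -/
theorem exists_tower (x : F) (hx0 : x ≠ 0) (hx : ∀ n, x ^ n = 1 → q + 1 ∣ 3 * n) :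
    ∃ d r : ℕ, 0 < r ∧ r ≤ 3 ∧ p ^ (d * r) = q ^ 2 ∧
      (∀ A : AddSubgroup F, (∀ i < r, ∀ j < d, x ^ j * wt φ ζ ^ i ∈ A) → ∀ a, a ∈ A) ∧
      ∀ A : AddSubgroup F, (∀ j < d, x ^ j ∈ A) → x ^ d ∈ A := by
  haveI : Fact p.Prime := ⟨S.hp⟩
  haveI := S.char
  letI : Algebra (ZMod p) F := ZMod.algebra F p
  classical
  set E := IntermediateField.adjoin (ZMod p) ({x} : Set F)
  let pb := IntermediateField.adjoin.powerBasis (K := ZMod p) (L := F) (x := x) (Algebra.IsIntegral.isIntegral x)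
  have hgen : (pb.gen : F) = x := rfl
  have hQ : Fintype.card E = p ^ pb.dim := by
    rw [Module.card_eq_pow_finrank (K := ZMod p) (V := E), ZMod.card, pb.finrank]
  have hFE := Module.card_eq_pow_finrank (K := E) (V := F)
  set r := Module.finrank E F
  have hq := three_le_q S
  have hdvd : q + 1 ∣ 3 * (Fintype.card E - 1) := by
    refine hx _ ?_
    have e := FiniteField.pow_card_sub_one_eq_one pb.gen (fun e => hx0 (by rw [← hgen, e]; rfl))
    have e' := congrArg (Subtype.val : E → F) e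
    rw [SubmonoidClass.coe_pow] at e'
    exact e'
  have hr : r ≤ 3 := by
    by_contra hr
    have h1 : Fintype.card E ^ 4 ≤ q ^ 2 := by
      rw [← card_F S, hFE]; exact Nat.pow_le_pow_right Fintype.card_pos (by omega)
    have h2 : q + 1 ≤ 3 * (Fintype.card E - 1) :=
      Nat.le_of_dvd (by have : 1 < Fintype.card E := Fintype.one_lt_card; omega) hdvd
    have h3 : Fintype.card E ^ 2 ≤ q := by
      rw [show (4 : ℕ) = 2 * 2 from rfl, pow_mul] at h1
      exact (Nat.pow_le_pow_iff_left two_ne_zero).1 h1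
    obtain ⟨c, hc⟩ : ∃ c, Fintype.card E = c + 1 := ⟨_, (Nat.succ_pred_eq_of_pos Fintype.card_pos).symm⟩
    rw [hc] at h2 h3
    rw [Nat.add_sub_cancel] at h2
    nlinarith
  refine ⟨pb.dim, r, Module.finrank_pos, hr, ?_, fun A hA a => ?_, fun A hA => ?_⟩
  · rw [pow_mul, ← hQ, ← hFE, card_F S]
  · set v := wt φ ζ
    have htop : IntermediateField.adjoin E ({v} : Set F) = ⊤ := by
      by_contra hne
      set L := IntermediateField.adjoin E ({v} : Set F)
      have hm := Module.card_eq_pow_finrank (K := L) (V := F)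
      rcases Nat.lt_or_ge (Module.finrank L F) 2 with h1 | h1
      · have h2 : Module.finrank L F = 1 := by
          have := Module.finrank_pos (R := L) (M := F)
          omega
        exact hne (IntermediateField.finrank_eq_one_iff_eq_top.1 h2)
      · have h2 : Fintype.card L ^ 2 ≤ q ^ 2 := by
          rw [← card_F S, hm]; exact Nat.pow_le_pow_right Fintype.card_pos h1
        have h3 := (Nat.pow_le_pow_iff_left two_ne_zero).1 h2
        have e := FiniteField.pow_card_sub_one_eq_one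
          (⟨v, IntermediateField.subset_adjoin _ _ rfl⟩ : L) (fun e => wt_ne_zero ζ (congrArg Subtype.val e))
        have e' := congrArg (Subtype.val : L → F) e
        rw [SubmonoidClass.coe_pow] at e'
        have h4 := Nat.le_of_dvd (by have : 1 < Fintype.card L := Fintype.one_lt_card; omega) (wt_pow_dvd S e')
        have h5 : 4 * q ≤ q ^ 2 + q := by nlinarith
        omega
    let pv := ((IntermediateField.adjoin.powerBasis (K := E) (L := F) (x := v)
      (Algebra.IsIntegral.isIntegral v)).map ((IntermediateField.equivOfEq htop).trans IntermediateField.topEquiv))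
    have hpv : pv.gen = v := by simp [pv]
    have hdim : pv.dim = r := pv.finrank.symm
    rw [← pv.basis.sum_repr a]
    refine AddSubgroup.sum_mem _ fun i _ => ?_
    rw [pv.coe_basis, hpv, Algebra.smul_def]
    refine SL2Pres.additive_induction pb (P := fun e : E => algebraMap E F e * v ^ (i : ℕ) ∈ A)
      (by simp) (fun e e' he he' => by rw [map_add, add_mul]; exact A.add_mem he he') (fun j => ?_) _
    rw [map_pow, IntermediateField.algebraMap_apply, hgen]
    exact hA i (by rw [← hdim]; exact i.2) j j.2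
  · have e := SL2Pres.additive_induction pb (P := fun e : E => (e : F) ∈ A) (by simp)
      (fun e e' he he' => by exact A.add_mem he he') (fun j => by rw [SubmonoidClass.coe_pow, hgen]; exact hA j j.2)
      (pb.gen ^ pb.dim)
    rw [SubmonoidClass.coe_pow, hgen] at e
    exact e

/-- Powers of the norm of `ζ` span the fixed field. -/
theorem exists_norm_basis : ∃ d : ℕ, 0 < d ∧ p ^ d = q ∧
    ∀ A : AddSubgroup F, ∀ c : F, (∀ j < d, nm φ (ζ : F) ^ j * c ∈ A) → ∀ s, φ s = s → s * c ∈ A := by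
  haveI : Fact p.Prime := ⟨S.hp⟩
  haveI := S.char
  letI : Algebra (ZMod p) F := ZMod.algebra F p
  classical
  set ω := nm φ (ζ : F) with hω
  set E := IntermediateField.adjoin (ZMod p) ({ω} : Set F)
  let pb := IntermediateField.adjoin.powerBasis (K := ZMod p) (L := F) (x := ω) (Algebra.IsIntegral.isIntegral ω)
  have hgen : (pb.gen : F) = ω := rfl
  have hmemE : ∀ s : F, φ s = s → s ∈ E := fun s hs => by
    rcases eq_or_ne s 0 with rfl | h0
    · exact zero_mem _
    obtain ⟨m, rfl⟩ := exists_power S s h0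
    obtain ⟨k, rfl⟩ := (fixed_pow_iff S m).1 hs
    have e : (ζ : F) ^ (q + 1) = ω := by rw [hω, nm, S.frob.hφ, pow_succ]; exact mul_comm _ _
    have hm : (ζ : F) ^ (q + 1) ∈ E := by
      rw [e]
      exact IntermediateField.subset_adjoin (ZMod p) ({ω} : Set F) (Set.mem_singleton ω)
    rw [pow_mul]
    exact pow_mem hm k
  have hE : (E : Set F) = {s | φ s = s} := by
    refine Set.Subset.antisymm ?_ hmemE
    have hle : E.toSubfield ≤ SU3.F0 φ := by
      rw [IntermediateField.adjoin_toSubfield, Subfield.closure_le]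
      rintro s (⟨a, rfl⟩ | rfl)
      · rw [SetLike.mem_coe, SU3.mem_F0]
        exact DFunLike.congr_fun (RingHom.ext_zmod (φ.comp (algebraMap (ZMod p) F)) (algebraMap (ZMod p) F)) a
      · exact map_nm S.frob.invol _
    exact fun s hs => hle hs
  refine ⟨pb.dim, pb.dim_pos, ?_, fun A c hA s hs => ?_⟩
  · have h1 : Fintype.card E = p ^ pb.dim := by
      rw [Module.card_eq_pow_finrank (K := ZMod p) (V := E), ZMod.card, pb.finrank]
    rw [← h1, ← S.frob.card_F0, ← Nat.card_eq_fintype_card]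
    exact Nat.card_congr (Equiv.setCongr hE)
  · exact SL2Pres.additive_induction pb (P := fun e : E => (e : F) * c ∈ A) (by simp)
      (fun e e' he he' => by rw [AddMemClass.coe_add, add_mul]; exact A.add_mem he he')
      (fun j => by rw [SubmonoidClass.coe_pow, hgen]; exact hA j j.2) ⟨s, hmemE s hs⟩

end Cfsg.Agent.SU3Pres
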