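import Cfsg.Agent.SU3Pres.Core

/-!
`SU₃(q)` and `PSU₃(q)` with three generators and at most 23, resp. 24 relations.
-/

set_option autoImplicit false
set_option maxHeartbeats 1000000
set_option maxRecDepth 4000

namespace Cfsg.Agent.SU3Pres

open Cfsg.Agent.Known

/-- The free generator for the root element. -/
abbrev U0 : FreeGroup (Fin 3) := FreeGroup.of 0
/-- The free generator for the torus. -/
abbrev H0 : FreeGroup (Fin 3) := FreeGroup.of 1
/-- The free generator for the Weyl element. -/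
abbrev W0 : FreeGroup (Fin 3) := FreeGroup.of 2

section maps

variable {G G' : Type*} [Group G] [Group G'] (f : G →* G')

theorem map_cg (g x : G) : f (cg g x) = cg (f g) (f x) := by simp [cg_def]

theorem map_zOf (u h : G) : f (zOf u h) = zOf (f u) (f h) := by simp [zOf, map_cg]

theorem image_GZ (P : Par) (u h : G) : f '' GZ P u h = GZ P (f u) (f h) := by
  rw [GZ, GZ, ← Set.range_comp]
  simp [Function.comp_def, map_cg, map_zOf, -map_pow, map_pow f]

theorem image_GLs (P : Par) (q : ℕ) (u h : G) : f '' GLs P q u h = GLs P q (f u) (f h) := by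
  rw [GLs, GLs, Set.image_union, image_GZ, ← Set.range_comp]
  simp [Function.comp_def, map_cg, map_pow f]

theorem image_G0 (P : Par) (u h : G) : f '' G0 P u h = G0 P (f u) (f h) := by
  rw [G0, G0, Set.image_union, image_GZ, ← Set.range_comp]
  simp [Function.comp_def, map_cg, map_pow f]

theorem image_GU (P : Par) (u h : G) : f '' GU P u h = GU P (f u) (f h) := by
  rw [GU, GU, Set.image_union, image_GZ, ← Set.range_comp]
  simp [Function.comp_def, map_cg, map_pow f]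

theorem map_mem_closure {s : Set G} {x : G} (hx : x ∈ Subgroup.closure s) :
    f x ∈ Subgroup.closure (f '' s) := by
  rw [← MonoidHom.map_closure]; exact Subgroup.mem_map_of_mem f hx

theorem exists_preimage {s : Set G} {y : G'} (hy : y ∈ Subgroup.closure (f '' s)) :
    ∃ x ∈ Subgroup.closure s, f x = y := by
  rw [← MonoidHom.map_closure] at hy
  exact Subgroup.mem_map.1 hy

end maps

variable {F : Type*} [Field F] [Fintype F] {φ : F →+* F} {q p : ℕ} {ζ : Fˣ}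
variable (S : Setup φ q p ζ)
include S

/-- Parameters exist. -/
theorem exists_par (h3 : q ≠ 3) : ∃ P : Par, Fit S P ∧ P.rL ≤ 3 ∧ P.rU ≤ 3 ∧
    wt φ ζ ^ P.kb = 1 + wt φ ζ ^ P.ka ∧ nm φ (ζ : F) ^ P.kz = 1 + nm φ (ζ : F) ∧
    (∀ A : AddSubgroup F, (∀ j < P.dU, (wt φ ζ ^ P.ka) ^ j ∈ A) → (wt φ ζ ^ P.ka) ^ P.dU ∈ A) ∧
    ∀ A : AddSubgroup F, (∀ i < P.rL, ∀ j : ℕ, (wt φ ζ ^ (q - 1)) ^ j * wt φ ζ ^ i ∈ A) → ∀ a, a ∈ A := by
  obtain ⟨i, k, hk, hx⟩ := exists_pair S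
  obtain ⟨dU, rU, hr0, hr3, hcard, hspan, hdeg⟩ :=
    exists_tower S (wt φ ζ ^ i) (pow_ne_zero _ (wt_ne_zero ζ)) hx
  obtain ⟨dL, rL, hl0, hl3, -, hspanL, -⟩ := exists_tower S (wt φ ζ ^ (q - 1)) (pow_ne_zero _ (wt_ne_zero ζ))
    (fun n hn => by
      rw [← pow_mul] at hn
      have h := wt_pow_dvd S hn
      rw [N_eq S, mul_left_comm, Nat.mul_dvd_mul_iff_left (by have := three_le_q S; omega)] at h
      exact h)
  obtain ⟨dZ, hz0, hcz, hspanZ⟩ := exists_norm_basis S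
  obtain ⟨kz, hkz⟩ : ∃ kz, nm φ (ζ : F) ^ kz = 1 + nm φ (ζ : F) := by
    have hne : 1 + nm φ (ζ : F) ≠ 0 := by
      intro e
      have h2 : ((ζ : F) ^ (q + 1)) ^ 2 = 1 := by
        rw [show (ζ : F) ^ (q + 1) = nm φ (ζ : F) by rw [nm, S.frob.hφ, ← pow_succ']]
        linear_combination (nm φ (ζ : F) - 1) * e
      rw [← pow_mul, pow_eq_one_iff S, N_eq S, mul_comm (q + 1), Nat.mul_dvd_mul_iff_right (Nat.succ_pos q)] at h2
      have := Nat.le_of_dvd (by norm_num) h2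
      have := three_le_q S
      omega
    obtain ⟨m, hm⟩ := exists_power S _ hne
    have hfix : φ ((ζ : F) ^ m) = (ζ : F) ^ m := by
      rw [← hm, map_add, map_one, map_nm S.frob.invol]
    obtain ⟨t, rfl⟩ := (fixed_pow_iff S m).1 hfix
    exact ⟨t, by rw [hm, pow_mul, nm, S.frob.hφ, ← pow_succ']⟩
  have hd0 : 0 < dU := by
    rcases Nat.eq_zero_or_pos dU with rfl | h
    · rw [Nat.zero_mul, pow_zero] at hcard
      have := N_pos S
      omega
    · exact h
  exact ⟨⟨i, k, kz, dZ, dU, rU, rL⟩, ⟨hr0, hd0, hz0, hl0, hcard, hcz, hspanZ, hspan⟩, hl3, hr3, hk, hkz, hdeg,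
    fun A hA => hspanL A fun i hi j _ => hA i hi j⟩

/-- The images of the generators. -/
noncomputable def imgs : Fin 3 → IsoG φ := ![uE S 1 (bOf φ q ζ 1), tE S ζ, wE]

/-- The map to the unitary group. -/
noncomputable def toK : FreeGroup (Fin 3) →* IsoG φ := FreeGroup.lift (imgs S)

theorem toK_U : toK S U0 = uE S 1 (bOf φ q ζ 1) := by simp [toK, imgs]
theorem toK_H : toK S H0 = tE S ζ := by simp [toK, imgs]
theorem toK_W : toK S W0 = wE := by simp [toK, imgs]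

theorem toK_cg (n : ℕ) {x : FreeGroup (Fin 3)} {a b : F} (hab : Ok φ a b) (hx : toK S x = uE S a b) :
    toK S (cg (H0 ^ n) x) = uE S (wt φ ζ ^ n * a) (nm φ (ζ : F) ^ n * b) := by
  rw [cg_def, map_mul, map_mul, map_inv, map_pow, toK_H, hx, ← map_pow, tE_uE S _ hab, wt_pow,
    Units.val_pow_eq_pow_val, nm_pow]

theorem ok_pow (n : ℕ) : Ok φ (wt φ ζ ^ n) (nm φ (ζ : F) ^ n * bOf φ q ζ 1) := by
  have := ok_tE S (ζ ^ n) (ok_bOf S 1)
  rwa [wt_pow, Units.val_pow_eq_pow_val, nm_pow, mul_one] at this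

theorem toK_u (n : ℕ) : toK S (cg (H0 ^ n) U0) = uE S (wt φ ζ ^ n) (nm φ (ζ : F) ^ n * bOf φ q ζ 1) := by
  rw [toK_cg S n (ok_bOf S 1) (toK_U S), mul_one]

/-- The parameter of the central element. -/
def cz (φ : F →+* F) (ζ : Fˣ) : F := wt φ ζ - φ (wt φ ζ)

omit [Fintype F] S in
theorem ok_skew {c : F} (hc : φ c = -c) : Ok φ 0 c := by simp [Ok, hc]

theorem skew_cz (n : ℕ) : φ (nm φ (ζ : F) ^ n * cz φ ζ) = -(nm φ (ζ : F) ^ n * cz φ ζ) := by
  rw [map_mul, map_pow, map_nm S.frob.invol, cz, map_sub, S.frob.invol]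
  ring

theorem toK_z : toK S (zOf U0 H0) = uE S 0 (cz φ ζ) := by
  have o1 := ok_bOf S 1
  have o2 : Ok φ (wt φ ζ) (nm φ (ζ : F) * bOf φ q ζ 1) := by simpa using ok_pow S 1
  have oz : Ok φ 0 (cz φ ζ) := by simpa using ok_skew (by simpa using skew_cz S 0)
  have e2 : toK S (cg H0 U0) = uE S (wt φ ζ) (nm φ (ζ : F) * bOf φ q ζ 1) := by simpa using toK_u S 1
  rw [zOf, mul_assoc, ← _root_.mul_inv_rev, map_mul, map_mul, map_inv, map_mul, e2, toK_U]
  rw [mul_inv_eq_iff_eq_mul, uE_mul S o1 o2, uE_mul S o2 o1, uE_mul S oz (ok_add S o2 o1)]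
  congr 1
  · ring
  · rw [cz, map_one]; ring

theorem toK_z_pow (n : ℕ) : toK S (cg (H0 ^ n) (zOf U0 H0)) = uE S 0 (nm φ (ζ : F) ^ n * cz φ ζ) := by
  rw [toK_cg S n (by simpa using ok_skew (by simpa using skew_cz S 0)) (toK_z S), mul_zero]

variable {P : Par} (hP : Fit S P)
include hP

theorem Z_full {s : Set (FreeGroup (Fin 3))} (hs : GZ P U0 H0 ⊆ s) {c : F} (hc : φ c = -c) :
    uE S 0 c ∈ Subgroup.closure (toK S '' s) := by
  let A : AddSubgroup F :=
    { carrier := {c | φ c = -c ∧ uE S 0 c ∈ Subgroup.closure (toK S '' s)}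
      zero_mem' := ⟨by simp, by rw [uE_zero]; exact one_mem _⟩
      add_mem' := fun {c d} ⟨hc, h1⟩ ⟨hd, h2⟩ => ⟨by rw [map_add, hc, hd]; ring, by
        have := mul_mem h1 h2
        rw [uE_mul S (ok_skew hc) (ok_skew hd)] at this
        simpa using this⟩
      neg_mem' := fun {c} ⟨hc, h1⟩ => ⟨by rw [map_neg, hc], by
        have := inv_mem h1
        rw [uE_inv S (ok_skew hc), hc, neg_zero] at this
        exact this⟩ }
  have h0 : φ (cz φ ζ) = -cz φ ζ := by simpa using skew_cz S 0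
  have hne : cz φ ζ ≠ 0 := sub_ne_zero.2 (Ne.symm (wt_fixed S))
  have h1 : c / cz φ ζ * cz φ ζ ∈ A := hP.spanZ A _ (fun j hj =>
    ⟨skew_cz S j, Subgroup.subset_closure ⟨_, hs ⟨⟨j, hj⟩, rfl⟩, toK_z_pow S j⟩⟩) _
    (by rw [map_div₀, hc, h0, neg_div_neg_eq])
  rw [div_mul_cancel₀ _ hne] at h1
  exact h1.2

/-- First coordinates reached by `s`. -/
def coords (s : Set (FreeGroup (Fin 3))) : AddSubgroup F where
  carrier := {a | ∃ b, Ok φ a b ∧ uE S a b ∈ Subgroup.closure (toK S '' s)}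
  zero_mem' := ⟨0, by simp [Ok], by rw [uE_zero]; exact one_mem _⟩
  add_mem' := fun ⟨_, h1, m1⟩ ⟨_, h2, m2⟩ => ⟨_, ok_add S h1 h2, by rw [← uE_mul S h1 h2]; exact mul_mem m1 m2⟩
  neg_mem' := fun ⟨_, h1, m1⟩ => ⟨_, ok_inv S h1, by rw [← uE_inv S h1]; exact inv_mem m1⟩

theorem full_of_coords {s : Set (FreeGroup (Fin 3))} (hs : GZ P U0 H0 ⊆ s) {a b : F}
    (hab : Ok φ a b) (ha : a ∈ coords S s) : ∃ x ∈ Subgroup.closure s, toK S x = uE S a b := by
  obtain ⟨b', hb', hm⟩ := ha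
  have hc : φ (b - b') = -(b - b') := by
    have h1 : _ = _ := hab
    have h2 : _ = _ := hb'
    rw [map_sub]
    linear_combination h1 - h2
  have := mul_mem hm (Z_full S hP hs hc)
  rw [uE_mul S hb' (ok_skew hc)] at this
  obtain ⟨x, hx, e⟩ := exists_preimage (toK S) this
  exact ⟨x, hx, by simpa using e⟩

theorem GU_full {a b : F} (hab : Ok φ a b) :
    ∃ x ∈ Subgroup.closure (GU P U0 H0), toK S x = uE S a b := by
  refine full_of_coords S hP Set.subset_union_right hab (hP.spanU _ (fun i hi j hj => ?_) a)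
  refine ⟨nm φ (ζ : F) ^ (P.ka * j + i) * bOf φ q ζ 1, by rw [← pow_mul, ← pow_add]; exact ok_pow S _,
    Subgroup.subset_closure ⟨_, Or.inl ⟨(⟨i, hi⟩, ⟨j, hj⟩), rfl⟩, ?_⟩⟩
  simp only []
  rw [← pow_mul, ← pow_add, toK_u, ← pow_mul, ← pow_add]

/-- Words for all the relations. -/
theorem exists_words (h1 : wt φ ζ ^ P.kb = 1 + wt φ ζ ^ P.ka)
    (hdeg : ∀ A : AddSubgroup F, (∀ j < P.dU, (wt φ ζ ^ P.ka) ^ j ∈ A) → (wt φ ζ ^ P.ka) ^ P.dU ∈ A)
    (hspanL : ∀ A : AddSubgroup F, (∀ i < P.rL, ∀ j : ℕ, (wt φ ζ ^ (q - 1)) ^ j * wt φ ζ ^ i ∈ A) → ∀ a, a ∈ A) :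
    ∃ yd yl yp : FreeGroup (Fin 3), ∃ c0 c1 : ℕ → FreeGroup (Fin 3), ∃ yb yu ya yc : FreeGroup (Fin 3),
      ∃ x tb : ℕ → FreeGroup (Fin 3),
      (yd ∈ ZS P U0 H0 ∧ toK S (cg (H0 ^ P.dZ) (zOf U0 H0)) = toK S yd) ∧
      (yl ∈ Subgroup.closure (GLs P q U0 H0) ∧ toK S (cg (H0 ^ P.rL) U0) = toK S yl) ∧
      (yp ∈ ZS P U0 H0 ∧ toK S (U0 ^ p) = toK S yp) ∧
      (∀ i, c0 i ∈ ZS P U0 H0 ∧ toK S (U0 * cg (H0 ^ i) U0 * U0⁻¹ * (cg (H0 ^ i) U0)⁻¹) = toK S (c0 i)) ∧
      (∀ i, c1 i ∈ ZS P U0 H0 ∧ toK S (U0 * cg (H0 ^ P.ka) (cg (H0 ^ i) U0) * U0⁻¹ *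
        (cg (H0 ^ P.ka) (cg (H0 ^ i) U0))⁻¹) = toK S (c1 i)) ∧
      (yb ∈ ZS P U0 H0 ∧ toK S ((U0 * cg (H0 ^ P.ka) U0)⁻¹ * cg (H0 ^ P.kb) U0) = toK S yb) ∧
      (yu ∈ UG P U0 H0 ∧ toK S (cg (H0 ^ P.rU) U0) = toK S yu) ∧
      (ya ∈ Subgroup.closure (G0 P U0 H0) ∧ toK S (cg ((H0 ^ P.ka) ^ P.dU) U0) = toK S ya) ∧
      (InC P U0 H0 W0 yc ∧ toK S (W0 * zOf U0 H0 * W0) = toK S yc) ∧
      (∀ i, x i ∈ UG P U0 H0 ∧ toK S (x i) = uE S ((ζ : F) ^ i) (bOf φ q ζ ((ζ : F) ^ i)) ∧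
        InC P U0 H0 W0 (tb i) ∧ toK S (W0 * x i * W0) = toK S (tb i)) := by
  classical
  -- elements with central image
  have hZ : ∀ (g : FreeGroup (Fin 3)) (c : F), φ c = -c → toK S g = uE S 0 c →
      ∃ y ∈ ZS P U0 H0, toK S g = toK S y := fun g c hc e => by
    obtain ⟨y, hy, ey⟩ := exists_preimage (toK S) (Z_full S hP subset_rfl hc)
    exact ⟨y, hy, e.trans ey.symm⟩
  have hcomm : ∀ {g g' : FreeGroup (Fin 3)} {a b a' b' : F}, Ok φ a b → Ok φ a' b' → toK S g = uE S a b →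
      toK S g' = uE S a' b' → ∃ y ∈ ZS P U0 H0, toK S (g * g' * g⁻¹ * g'⁻¹) = toK S y := by
    intro g g' a b a' b' o o' e e'
    have hc : φ (a' * φ a - a * φ a') = -(a' * φ a - a * φ a') := by
      rw [map_sub, map_mul, map_mul, S.frob.invol, S.frob.invol]; ring
    refine hZ _ _ hc ?_
    rw [mul_assoc _ g⁻¹, ← _root_.mul_inv_rev, map_mul, map_mul, map_inv, map_mul, e, e',
      mul_inv_eq_iff_eq_mul, uE_mul S o o', uE_mul S o' o, uE_mul S (ok_skew hc) (ok_add S o' o)]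
    congr 1
    · ring
    · simp; ring
  have hbr : ∀ (g : FreeGroup (Fin 3)) (a b : F), Ok φ a b → b ≠ 0 → toK S g = uE S a b →
      ∃ y, InC P U0 H0 W0 y ∧ toK S (W0 * g * W0) = toK S y := by
    intro g a b o hb e
    obtain ⟨v1, hv1, e1⟩ := GU_full S hP (ok_bruhat S o hb).1
    obtain ⟨v2, hv2, e2⟩ := GU_full S hP (ok_bruhat S o hb).2
    obtain ⟨n, hn⟩ := S.gen (Units.mk0 (φ b)⁻¹ (by simp [hb]))
    refine ⟨v1 * H0 ^ n * W0 * v2, ⟨v1, hv1, n, v2, hv2, rfl⟩, ?_⟩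
    simp only [map_mul, map_pow, toK_W, toK_H, e, e1, e2]
    rw [bruhat S o hb, hn, map_pow]
  obtain ⟨yd, hyd⟩ := hZ _ _ (skew_cz S _) (toK_z_pow S P.dZ)
  obtain ⟨yl, hyl⟩ : ∃ y ∈ Subgroup.closure (GLs P q U0 H0), toK S (cg (H0 ^ P.rL) U0) = toK S y := by
    obtain ⟨y, hy, e⟩ := full_of_coords S hP (s := GLs P q U0 H0) Set.subset_union_right (ok_pow S P.rL)
      (hspanL _ (fun i hi j => by
        refine ⟨nm φ (ζ : F) ^ ((q - 1) * j + i) * bOf φ q ζ 1, by rw [← pow_mul, ← pow_add]; exact ok_pow S _,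
          Subgroup.subset_closure ⟨_, Or.inl ⟨(j, ⟨i, hi⟩), rfl⟩, ?_⟩⟩
        simp only []
        rw [← pow_mul, ← pow_add, toK_u, ← pow_mul, ← pow_add]) _)
    exact ⟨y, hy, by rw [toK_u, e]⟩
  obtain ⟨yp, hyp⟩ : ∃ y ∈ ZS P U0 H0, toK S (U0 ^ p) = toK S y := by
    have key : ∀ n : ℕ, ∃ b, Ok φ (n : F) b ∧ toK S (U0 ^ n) = uE S (n : F) b := by
      intro n
      induction n with
      | zero => exact ⟨0, by simp [Ok], by rw [pow_zero, map_one, Nat.cast_zero, uE_zero]⟩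
      | succ n ih =>
        obtain ⟨b, hb, e⟩ := ih
        refine ⟨b + bOf φ q ζ 1 - (n : F) * φ 1, by push_cast; exact ok_add S hb (ok_bOf S 1), ?_⟩
        rw [pow_succ, map_mul, e, toK_U, uE_mul S hb (ok_bOf S 1)]
        push_cast
        rfl
    obtain ⟨b, hb, e⟩ := key p
    haveI := S.char
    rw [CharP.cast_eq_zero F p] at hb e
    refine hZ _ b ?_ e
    have h' : _ = _ := hb
    linear_combination h'
  choose c0 hc0 using fun i => hcomm (ok_bOf S 1) (ok_pow S i) (toK_U S) (toK_u S i)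
  have hc1' : ∀ i, ∃ y ∈ ZS P U0 H0, toK S (U0 * cg (H0 ^ P.ka) (cg (H0 ^ i) U0) * U0⁻¹ *
      (cg (H0 ^ P.ka) (cg (H0 ^ i) U0))⁻¹) = toK S y := fun i => by
    rw [cg_cg, ← pow_add]
    exact hcomm (ok_bOf S 1) (ok_pow S _) (toK_U S) (toK_u S _)
  choose c1 hc1 using hc1'
  obtain ⟨yb, hyb⟩ : ∃ y ∈ ZS P U0 H0,
      toK S ((U0 * cg (H0 ^ P.ka) U0)⁻¹ * cg (H0 ^ P.kb) U0) = toK S y := by
    have o := ok_add S (ok_bOf S 1) (ok_pow S P.ka)
    have o2 := ok_pow S P.kb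
    rw [h1] at o2
    have hc : φ (nm φ (ζ : F) ^ P.kb * bOf φ q ζ 1 -
        (bOf φ q ζ 1 + nm φ (ζ : F) ^ P.ka * bOf φ q ζ 1 - 1 * φ (wt φ ζ ^ P.ka))) =
        -(nm φ (ζ : F) ^ P.kb * bOf φ q ζ 1 -
        (bOf φ q ζ 1 + nm φ (ζ : F) ^ P.ka * bOf φ q ζ 1 - 1 * φ (wt φ ζ ^ P.ka))) := by
      have e1 : _ = _ := o
      have e2 : _ = _ := o2
      rw [map_sub]
      linear_combination e2 - e1
    refine hZ _ _ hc ?_
    rw [map_mul, map_inv, map_mul, toK_U, toK_u, toK_u, uE_mul S (ok_bOf S 1) (ok_pow S P.ka),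
      inv_mul_eq_iff_eq_mul, h1, uE_mul S o (ok_skew hc)]
    congr 1
    · ring
    · simp
  obtain ⟨yu, hyu⟩ : ∃ y ∈ UG P U0 H0, toK S (cg (H0 ^ P.rU) U0) = toK S y := by
    obtain ⟨y, hy, e⟩ := GU_full S hP (ok_pow S P.rU)
    exact ⟨y, hy, by rw [toK_u, e]⟩
  obtain ⟨ya, hya⟩ : ∃ y ∈ Subgroup.closure (G0 P U0 H0),
      toK S (cg ((H0 ^ P.ka) ^ P.dU) U0) = toK S y := by
    obtain ⟨y, hy, e⟩ := full_of_coords S hP (s := G0 P U0 H0) Set.subset_union_right (ok_pow S (P.ka * P.dU))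
      (by
        rw [pow_mul]
        refine hdeg _ (fun j hj => ?_)
        refine ⟨nm φ (ζ : F) ^ (P.ka * j) * bOf φ q ζ 1, by rw [← pow_mul]; exact ok_pow S _,
          Subgroup.subset_closure ⟨_, Or.inl ⟨⟨j, hj⟩, rfl⟩, ?_⟩⟩
        simp only []
        rw [← pow_mul, toK_u, ← pow_mul])
    exact ⟨y, hy, by rw [← pow_mul, toK_u, e]⟩
  have h0 : φ (cz φ ζ) = -cz φ ζ := by simpa using skew_cz S 0
  obtain ⟨yc, hyc⟩ := hbr _ _ _ (ok_skew h0) (sub_ne_zero.2 (Ne.symm (wt_fixed S))) (toK_z S)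
  have hx' : ∀ i : ℕ, ∃ x tb, x ∈ UG P U0 H0 ∧
      toK S x = uE S ((ζ : F) ^ i) (bOf φ q ζ ((ζ : F) ^ i)) ∧
      InC P U0 H0 W0 tb ∧ toK S (W0 * x * W0) = toK S tb := fun i => by
    obtain ⟨x, hx, ex⟩ := GU_full S hP (ok_bOf S ((ζ : F) ^ i))
    obtain ⟨tb, h1, h2⟩ := hbr x _ _ (ok_bOf S _)
      (div_ne_zero (mul_ne_zero (by simp) (by simp)) (sub_ne_zero.2 (sg_ne_one S))) ex
    exact ⟨x, tb, hx, ex, h1, h2⟩
  choose x tb hx using hx'
  exact ⟨yd, yl, yp, c0, c1, yb, yu, ya, yc, x, tb, hyd, hyl, hyp, hc0, hc1, hyb, hyu, hya, hyc, hx⟩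

omit hP in
/-- Mapping the big cell. -/
theorem map_InC {G : Type*} [Group G] (f : FreeGroup (Fin 3) →* G) {y : FreeGroup (Fin 3)}
    (hy : InC P U0 H0 W0 y) : InC P (f U0) (f H0) (f W0) (f y) := by
  obtain ⟨a, ha, n, b, hb, rfl⟩ := hy
  refine ⟨f a, ?_, n, f b, ?_, by simp⟩
  · have := map_mem_closure f ha; rwa [image_GU] at this
  · have := map_mem_closure f hb; rwa [image_GU] at this

/-- The presentation of the unitary group of the anti-diagonal form. -/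
theorem exists_presentation (hrL : P.rL ≤ 3) (hrU : P.rU ≤ 3)
    (h1 : wt φ ζ ^ P.kb = 1 + wt φ ζ ^ P.ka) (hkz : nm φ (ζ : F) ^ P.kz = 1 + nm φ (ζ : F))
    (hdeg : ∀ A : AddSubgroup F, (∀ j < P.dU, (wt φ ζ ^ P.ka) ^ j ∈ A) → (wt φ ζ ^ P.ka) ^ P.dU ∈ A)
    (hspanL : ∀ A : AddSubgroup F, (∀ i < P.rL, ∀ j : ℕ, (wt φ ζ ^ (q - 1)) ^ j * wt φ ζ ^ i ∈ A) → ∀ a, a ∈ A) :
    ∃ R : Finset (FreeGroup (Fin 3)), R.card ≤ 23 ∧
      ∃ e : PresentedGroup (↑R : Set (FreeGroup (Fin 3))) ≃* IsoG φ,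
        ∀ y, e (PresentedGroup.mk _ y) = toK S y := by
  classical
  obtain ⟨yd, yl, yp, c0, c1, yb, yu, ya, yc, x, tb, hyd, hyl, hyp, hc0, hc1, hyb, hyu, hya, hyc, hx⟩ :=
    exists_words S hP h1 hdeg hspanL
  set z := zOf U0 H0 with hz
  let L : List (FreeGroup (Fin 3) × FreeGroup (Fin 3)) :=
    [(W0 * W0, 1), (W0 * H0 * W0, H0 ^ (-(q : ℤ))), (z ^ p, 1), (z * cg H0 z, cg H0 z * z),
     (cg (H0 ^ P.kz) z, z * cg H0 z), (cg (H0 ^ P.dZ) z, yd)] ++
    (List.range P.rL).map (fun i => (z * cg (H0 ^ i) U0, cg (H0 ^ i) U0 * z)) ++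
    [(cg (H0 ^ P.rL) U0, yl), (U0 ^ p, yp)] ++
    (List.range (P.rU - 1)).map (fun i => (U0 * cg (H0 ^ (i + 1)) U0 * U0⁻¹ * (cg (H0 ^ (i + 1)) U0)⁻¹, c0 (i + 1))) ++
    (List.range P.rU).map (fun i => (U0 * cg (H0 ^ P.ka) (cg (H0 ^ i) U0) * U0⁻¹ *
      (cg (H0 ^ P.ka) (cg (H0 ^ i) U0))⁻¹, c1 i)) ++
    [((U0 * cg (H0 ^ P.ka) U0)⁻¹ * cg (H0 ^ P.kb) U0, yb), (cg (H0 ^ P.rU) U0, yu),
     (cg ((H0 ^ P.ka) ^ P.dU) U0, ya)] ++
    (List.range 3).map (fun i => (W0 * x i * W0, tb i)) ++ [(W0 * z * W0, yc)]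
  let R : Finset (FreeGroup (Fin 3)) := (L.map fun e => e.1 * e.2⁻¹).toFinset
  have hcard : R.card ≤ 23 := by
    refine (List.toFinset_card_le _).trans ?_
    simp only [L, List.length_map, List.length_append, List.length_cons, List.length_nil, List.length_range]
    have := hP.rU0
    omega
  -- the relations hold in the unitary group
  have hsat : ∀ e ∈ L, toK S e.1 = toK S e.2 := by
    intro e he
    simp only [L, List.mem_append, List.mem_cons, List.mem_map, List.mem_range, List.not_mem_nil, or_false] at he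
    have o0 : Ok φ 0 (cz φ ζ) := ok_skew (by simpa using skew_cz S 0)
    rcases he with (((((((rfl | rfl | rfl | rfl | rfl | rfl) | ⟨i, -, rfl⟩) | (rfl | rfl)) | ⟨i, -, rfl⟩) |
      ⟨i, -, rfl⟩) | (rfl | rfl | rfl)) | ⟨i, -, rfl⟩) | rfl
    · rw [map_mul, map_one, toK_W, w_sq S]
    · rw [map_mul, map_mul, map_zpow, toK_W, toK_H, w_tE S, zpow_neg, zpow_natCast, ← map_pow]
      congr 2
      exact Units.ext (by simp [S.frob.hφ])
    · have key : ∀ n : ℕ, toK S (z ^ n) = uE S 0 ((n : F) * cz φ ζ) := by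
        intro n
        induction n with
        | zero => rw [pow_zero, map_one, Nat.cast_zero, zero_mul, uE_zero]
        | succ n ih =>
          rw [pow_succ, map_mul, ih, hz, toK_z, uE_mul S
            (ok_skew (by rw [map_mul, map_natCast, show φ (cz φ ζ) = -cz φ ζ by simpa using skew_cz S 0]; ring)) o0]
          simp [add_mul]
      haveI := S.char
      rw [key, CharP.cast_eq_zero F p, zero_mul, uE_zero, map_one]
    · have e1 : toK S (cg H0 z) = uE S 0 (nm φ (ζ : F) * cz φ ζ) := by simpa [hz] using toK_z_pow S 1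
      rw [map_mul, map_mul, e1, hz, toK_z, uE_mul S o0 (ok_skew (by simpa using skew_cz S 1)),
        uE_mul S (ok_skew (by simpa using skew_cz S 1)) o0, add_comm (cz φ ζ)]
    · have e1 : toK S (cg H0 z) = uE S 0 (nm φ (ζ : F) * cz φ ζ) := by simpa [hz] using toK_z_pow S 1
      rw [map_mul, e1, hz, toK_z, toK_z_pow, uE_mul S o0 (ok_skew (by simpa using skew_cz S 1)), hkz]
      congr 1
      · simp
      · simp [add_mul]
    · exact hyd.2
    · rw [map_mul, map_mul, hz, toK_z, toK_u, uE_mul S o0 (ok_pow S i), uE_mul S (ok_pow S i) o0]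
      simp [add_comm]
    · exact hyl.2
    · exact hyp.2
    · exact (hc0 (i + 1)).2
    · exact (hc1 i).2
    · exact hyb.2
    · exact hyu.2
    · exact hya.2
    · exact (hx i).2.2.2
    · exact hyc.2
  have hker : ∀ r ∈ (↑R : Set (FreeGroup (Fin 3))), FreeGroup.lift (imgs S) r = 1 := by
    intro r hr
    obtain ⟨e, he, rfl⟩ := List.mem_map.1 (List.mem_toFinset.1 (Finset.mem_coe.1 hr))
    show toK S (e.1 * e.2⁻¹) = 1
    rw [map_mul, map_inv, mul_inv_eq_one]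
    exact hsat e he
  let π := PresentedGroup.toGroup (f := imgs S) hker
  have hπ : ∀ y, π (PresentedGroup.mk _ y) = toK S y := fun _ => rfl
  set μ := PresentedGroup.mk (↑R : Set (FreeGroup (Fin 3))) with hμ
  have hm : ∀ e ∈ L, μ e.1 = μ e.2 := fun e he => by
    have : μ (e.1 * e.2⁻¹) = 1 :=
      PresentedGroup.one_of_mem (Finset.mem_coe.2 (List.mem_toFinset.2 (List.mem_map.2 ⟨e, he, rfl⟩)))
    rwa [map_mul, map_inv, mul_inv_eq_one] at this
  have hZmem : ∀ y ∈ ZS P U0 H0, μ y ∈ ZS P (μ U0) (μ H0) := fun y hy => by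
    have := map_mem_closure μ hy; rwa [image_GZ] at this
  have hUmem : ∀ y ∈ UG P U0 H0, μ y ∈ UG P (μ U0) (μ H0) := fun y hy => by
    have := map_mem_closure μ hy; rwa [image_GU] at this
  have H : Holds S P π (μ U0) (μ H0) (μ W0) := by
    have mz : μ z = zOf (μ U0) (μ H0) := map_zOf μ _ _
    refine ⟨?_, ?_, ?_, ?_, ?_, ?_, ?_, ?_, ?_, ?_, ?_, ?_, ?_, ?_, ?_, ?_, ?_, ?_, ?_, ?_⟩
    · simpa using hm (W0 * W0, 1) (by simp only [L, List.mem_append, List.mem_cons, true_or, or_true])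
    · simpa using hm (W0 * H0 * W0, H0 ^ (-(q : ℤ))) (by simp only [L, List.mem_append, List.mem_cons, true_or, or_true])
    · simpa [mz] using hm (z ^ p, 1) (by simp only [L, List.mem_append, List.mem_cons, true_or, or_true])
    · simpa [mz, map_cg μ, Commute, SemiconjBy] using hm (z * cg H0 z, cg H0 z * z) (by simp only [L, List.mem_append, List.mem_cons, true_or, or_true])
    · simpa [mz, map_cg μ] using hm (cg (H0 ^ P.kz) z, z * cg H0 z) (by simp only [L, List.mem_append, List.mem_cons, true_or, or_true])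
    · have e := hm (cg (H0 ^ P.dZ) z, yd) (by simp only [L, List.mem_append, List.mem_cons, true_or, or_true])
      simp only [map_cg μ, map_pow, mz] at e
      rw [e]; exact hZmem _ hyd.1
    · intro i hi
      simpa [mz, map_cg μ, Commute, SemiconjBy] using hm (z * cg (H0 ^ i) U0, cg (H0 ^ i) U0 * z) (by
        refine List.mem_append_left _ (List.mem_append_left _ (List.mem_append_left _ (List.mem_append_left _
          (List.mem_append_left _ (List.mem_append_left _ (List.mem_append_right _ ?_))))))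
        exact List.mem_map.2 ⟨i, List.mem_range.2 hi, rfl⟩)
    · have e := hm (cg (H0 ^ P.rL) U0, yl) (by simp only [L, List.mem_append, List.mem_cons, true_or, or_true])
      simp only [map_cg μ, map_pow] at e
      rw [e]
      have := map_mem_closure μ hyl.1
      rwa [image_GLs] at this
    · have e := hm (U0 ^ p, yp) (by simp only [L, List.mem_append, List.mem_cons, true_or, or_true])
      simp only [map_pow] at e
      rw [e]; exact hZmem _ hyp.1
    · intro i hi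
      rcases i with _ | i
      · simp [cg_one, one_mem]
      · have e := hm (U0 * cg (H0 ^ (i + 1)) U0 * U0⁻¹ * (cg (H0 ^ (i + 1)) U0)⁻¹, c0 (i + 1))
          (by
            refine List.mem_append_left _ (List.mem_append_left _ (List.mem_append_left _
              (List.mem_append_left _ (List.mem_append_right _ ?_))))
            exact List.mem_map.2 ⟨i, List.mem_range.2 (by omega), rfl⟩)
        simp only [map_cg μ, map_pow, map_mul, map_inv] at e
        rw [e]; exact hZmem _ (hc0 (i + 1)).1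
    · intro i hi
      have e := hm (U0 * cg (H0 ^ P.ka) (cg (H0 ^ i) U0) * U0⁻¹ * (cg (H0 ^ P.ka) (cg (H0 ^ i) U0))⁻¹, c1 i)
        (by
          refine List.mem_append_left _ (List.mem_append_left _ (List.mem_append_left _ (List.mem_append_right _ ?_)))
          exact List.mem_map.2 ⟨i, List.mem_range.2 hi, rfl⟩)
      simp only [map_cg μ, map_pow, map_mul, map_inv] at e
      rw [e]; exact hZmem _ (hc1 i).1
    · have e := hm ((U0 * cg (H0 ^ P.ka) U0)⁻¹ * cg (H0 ^ P.kb) U0, yb) (by simp only [L, List.mem_append, List.mem_cons, true_or, or_true])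
      simp only [map_cg μ, map_pow, map_mul, map_inv] at e
      rw [e]; exact hZmem _ hyb.1
    · have e := hm (cg (H0 ^ P.rU) U0, yu) (by simp only [L, List.mem_append, List.mem_cons, true_or, or_true])
      simp only [map_cg μ, map_pow] at e
      rw [e]; exact hUmem _ hyu.1
    · have e := hm (cg ((H0 ^ P.ka) ^ P.dU) U0, ya) (by simp only [L, List.mem_append, List.mem_cons, true_or, or_true])
      simp only [map_cg μ, map_pow] at e
      rw [e]
      have := map_mem_closure μ hya.1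
      rwa [image_G0] at this
    · intro i hi
      refine ⟨μ (x i), hUmem _ (hx i).1, (hπ _).trans (hx i).2.1, ?_⟩
      have e := hm (W0 * x i * W0, tb i) (by
        refine List.mem_append_left _ (List.mem_append_right _ ?_)
        exact List.mem_map.2 ⟨i, List.mem_range.2 hi, rfl⟩)
      simp only [map_mul] at e
      rw [e]; exact map_InC S μ (hx i).2.2.1
    · have e := hm (W0 * z * W0, yc) (by simp only [L, List.mem_append, List.mem_cons, true_or, or_true])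
      simp only [map_mul, mz] at e
      rw [e]; exact map_InC S μ hyc.1
    · exact (hπ _).trans (toK_U S)
    · exact (hπ _).trans (toK_H S)
    · exact (hπ _).trans (toK_W S)
    · rw [eq_top_iff, ← PresentedGroup.closure_range_of, Subgroup.closure_le]
      rintro _ ⟨k, rfl⟩
      refine Subgroup.subset_closure ?_
      fin_cases k
      · exact Or.inl rfl
      · exact Or.inr (Or.inl rfl)
      · exact Or.inr (Or.inr rfl)
  exact ⟨R, hcard, MulEquiv.ofBijective π (pi_bijective H hP), hπ⟩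

omit hP in
/-- The central quotient needs one more relation. -/
theorem exists_quotient {R : Finset (FreeGroup (Fin 3))}
    (e : PresentedGroup (↑R : Set (FreeGroup (Fin 3))) ≃* IsoG φ)
    (he : ∀ y, e (PresentedGroup.mk _ y) = toK S y)
    (hcen : ∀ g : IsoG φ, g ∈ Subgroup.center (IsoG φ) ↔ ∃ c : F, g.1.1 = Matrix.scalar (Fin 3) c) :
    ∃ R' : Finset (FreeGroup (Fin 3)), R'.card ≤ R.card + 1 ∧
      Nonempty (PresentedGroup (↑R' : Set (FreeGroup (Fin 3))) ≃* IsoG φ ⧸ Subgroup.center (IsoG φ)) := by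
  classical
  set n0 := (q ^ 2 - 1) / Nat.gcd 3 (q + 1)
  have hg : Nat.gcd 3 (q + 1) ∣ q ^ 2 - 1 := by
    rw [N_eq S]; exact Dvd.dvd.mul_left (Nat.gcd_dvd_right _ _) _
  have hmul : n0 * Nat.gcd 3 (q + 1) = q ^ 2 - 1 := Nat.div_mul_cancel hg
  have hiff : ∀ n : ℕ, (((ζ : F) ^ n) ^ 3 = 1 ∧ ((ζ : F) ^ n) ^ (q + 1) = 1) ↔ n0 ∣ n := by
    intro n
    rw [← pow_mul, ← pow_mul, pow_eq_one_iff S, pow_eq_one_iff S, ← Nat.dvd_gcd_iff, Nat.gcd_mul_left, ← hmul,
      Nat.mul_dvd_mul_iff_right (Nat.gcd_pos_of_pos_left _ (by norm_num))]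
  have hcen0 : tE S (ζ ^ n0) ∈ Subgroup.center (IsoG φ) := by
    obtain ⟨h3, hq1⟩ := (hiff n0).2 dvd_rfl
    refine (hcen _).2 ⟨(ζ : F) ^ n0, ?_⟩
    set l := (ζ : F) ^ n0 with hl
    have hl0 : l ≠ 0 := pow_ne_zero _ ζ.ne_zero
    have hφl : φ l = l⁻¹ := eq_inv_of_mul_eq_one_left (by rw [S.frob.hφ, ← pow_succ]; exact hq1)
    rw [val_tE, Units.val_pow_eq_pow_val, ← hl, hφl, inv_inv]
    ext i j
    fin_cases i <;> fin_cases j <;> simp
    field_simp
    linear_combination -h3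
  have hgen : ∀ g ∈ Subgroup.center (IsoG φ), ∃ m : ℕ, g = tE S ((ζ ^ n0) ^ m) := by
    intro g hgc
    obtain ⟨c, hc⟩ := (hcen g).1 hgc
    have hc3 : c ^ 3 = 1 := by
      have := g.1.2
      rw [hc] at this
      simpa [Matrix.det_diagonal, Fin.prod_univ_three, pow_succ] using this
    have hc0 : c ≠ 0 := fun e => by rw [e] at hc3; simp at hc3
    have hiso := g.2 ![1, 0, 0] ![0, 0, 1]
    rw [hc] at hiso
    simp [SU3.H_eq, Matrix.scalar_apply, Matrix.mulVec_diagonal] at hiso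
    have hq1 : c ^ (q + 1) = 1 := by rw [pow_succ', ← S.frob.hφ]; exact hiso
    obtain ⟨n, rfl⟩ := exists_power S c hc0
    obtain ⟨m, rfl⟩ := (hiff n).1 ⟨hc3, hq1⟩
    refine ⟨m, ext_mat ?_⟩
    rw [hc, val_tE, ← pow_mul, Units.val_pow_eq_pow_val]
    have hφc : φ ((ζ : F) ^ (n0 * m)) = ((ζ : F) ^ (n0 * m))⁻¹ :=
      eq_inv_of_mul_eq_one_left (by rw [S.frob.hφ, ← pow_succ]; exact hq1)
    rw [hφc, inv_inv]
    ext i j
    fin_cases i <;> fin_cases j <;> simp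
    field_simp
    linear_combination hc3
  set R' : Set (FreeGroup (Fin 3)) := ↑(insert (H0 ^ n0) R)
  let qu : IsoG φ →* IsoG φ ⧸ Subgroup.center (IsoG φ) := QuotientGroup.mk' _
  have hlift : FreeGroup.lift (fun k => qu (imgs S k)) = qu.comp (toK S) :=
    FreeGroup.ext_hom _ _ fun k => by simp [toK]
  have hR : ∀ r ∈ R, toK S r = 1 := fun r hr => by
    rw [← he, PresentedGroup.one_of_mem (Finset.mem_coe.2 hr), map_one]
  let π : PresentedGroup R' →* IsoG φ ⧸ Subgroup.center (IsoG φ) :=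
    PresentedGroup.toGroup (f := fun k => qu (imgs S k)) fun r hr => by
      rw [hlift, MonoidHom.comp_apply]
      rcases Finset.mem_insert.1 (Finset.mem_coe.1 hr) with rfl | hr
      · rw [map_pow, toK_H, ← map_pow (tE S)]
        exact (QuotientGroup.eq_one_iff _).2 hcen0
      · rw [hR r hr, map_one]
  have hid : FreeGroup.lift (fun k => (PresentedGroup.of k : PresentedGroup R')) = PresentedGroup.mk R' :=
    FreeGroup.ext_hom _ _ fun k => by simp [PresentedGroup.of]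
  let η : PresentedGroup (↑R : Set (FreeGroup (Fin 3))) →* PresentedGroup R' :=
    PresentedGroup.toGroup (f := fun k => (PresentedGroup.of k : PresentedGroup R')) fun r hr => by
      rw [hid]
      exact PresentedGroup.one_of_mem (Finset.mem_coe.2 (Finset.mem_insert_of_mem (Finset.mem_coe.1 hr)))
  let ρ : IsoG φ →* PresentedGroup R' := η.comp e.symm.toMonoidHom
  have hρ : ∀ w, ρ (toK S w) = PresentedGroup.mk R' w := fun w => by
    rw [← he]
    show η (e.symm (e _)) = _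
    rw [e.symm_apply_apply]
    exact DFunLike.congr_fun hid w
  have hker : Subgroup.center (IsoG φ) ≤ ρ.ker := fun g hg => by
    rw [MonoidHom.mem_ker]
    obtain ⟨m, rfl⟩ := hgen g hg
    rw [map_pow (tE S), map_pow (tE S), ← toK_H S, ← map_pow (toK S), ← map_pow (toK S), hρ, map_pow]
    have h1 : PresentedGroup.mk R' (H0 ^ n0) = 1 :=
      PresentedGroup.one_of_mem (Finset.mem_coe.2 (Finset.mem_insert_self _ _))
    rw [h1, one_pow]
  have hπ : ∀ w, π (PresentedGroup.mk R' w) = qu (toK S w) := fun w => DFunLike.congr_fun hlift w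
  refine ⟨_, Finset.card_insert_le _ _, ⟨MonoidHom.toMulEquiv π (QuotientGroup.lift _ ρ hker) ?_ ?_⟩⟩
  · refine PresentedGroup.ext fun k => ?_
    show QuotientGroup.lift _ ρ hker (π (PresentedGroup.mk R' (FreeGroup.of k))) = _
    rw [hπ]
    exact hρ _
  · refine MonoidHom.ext fun y => ?_
    obtain ⟨g, rfl⟩ := QuotientGroup.mk_surjective y
    show π (ρ g) = qu g
    obtain ⟨y, rfl⟩ := e.surjective g
    induction y using PresentedGroup.induction_on with
    | _ w => rw [he, hρ, hπ]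

omit S hP in
/-- The statement of the theorem. -/
theorem presentations (q : ℕ) (hF : Fintype.card F = q ^ 2) (h2 : q ≠ 2) (h3 : q ≠ 3) (h5 : q ≠ 5) :
    (∃ R : Finset (FreeGroup (Fin 3)), R.card ≤ 23 ∧
      Nonempty (PresentedGroup (↑R : Set (FreeGroup (Fin 3))) ≃* Cfsg.SU 3 F q)) ∧
    (∃ R : Finset (FreeGroup (Fin 3)), R.card ≤ 24 ∧
      Nonempty (PresentedGroup (↑R : Set (FreeGroup (Fin 3))) ≃* Cfsg.PSU 3 F q)) := by
  classical
  obtain ⟨φ, hφ⟩ := SU3.exists_frob hF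
  obtain ⟨p, k, hp, hc, hqk⟩ := hφ.hF.exists_char
  obtain ⟨ζ, hζ⟩ := IsCyclic.exists_generator (α := Fˣ)
  have S : Setup φ q p ζ := ⟨hφ, hp, hc, h2, h5, fun z => by
      obtain ⟨m, hm⟩ := mem_powers_iff_mem_zpowers.2 (hζ z)
      exact ⟨m, hm.symm⟩,
    by rw [orderOf_eq_card_of_forall_mem_zpowers hζ, Nat.card_eq_fintype_card, Fintype.card_units, hF]⟩
  obtain ⟨P, hP, hl, hr, e1, e2, hdeg, hspan⟩ := exists_par S h3
  obtain ⟨R, hR, e, he⟩ := exists_presentation S hP hl hr e1 e2 hdeg hspan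
  obtain ⟨su, hcen⟩ := exists_equiv_su S
  obtain ⟨R', hR', ⟨e'⟩⟩ := exists_quotient S e he hcen
  refine ⟨⟨R, hR, ⟨e.trans su⟩⟩, R', by omega, ⟨e'.trans (QuotientGroup.congr _ _ su ?_)⟩⟩
  ext x
  simp only [Subgroup.mem_map, Subgroup.mem_center_iff]
  constructor
  · rintro ⟨y, hy, rfl⟩ g
    obtain ⟨g, rfl⟩ := su.surjective g
    show su g * su y = su y * su g
    rw [← map_mul, ← map_mul, hy g]
  · intro hx
    refine ⟨su.symm x, fun g => su.injective ?_, su.apply_symm_apply x⟩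
    rw [map_mul, map_mul, su.apply_symm_apply]
    exact hx _

end Cfsg.Agent.SU3Pres
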